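import Cfsg.Agent.CosetCert.Pack

/-! Generated: facts of the log. -/

set_option autoImplicit false
set_option maxRecDepth 100000

namespace Cfsg.Agent.HeRecog.M8a.BS34ColW

open Cfsg.Agent.CosetCert

def factStore : Store := (.leaf 0x700000000001300000000041300002000000e00000000041300008000040e000040000007000040000013000090000013000000000a130000f0000413000160000413000170000d130001b0000e130001a0000f070000f0000013000190000013000000001813000100000f1300000000111300000000120e0000a000040e000040000d130000b0000413000040000c0e000170001b0700002000110e00002000081300002000071300006000140300014000040100002000141300015000140300004000150200002000140600004000040000004000040400004000001300005000040d00000000110800000000000a000000000009000000000007000000000f030000200000060000000000020000000004130000200003000000000000130000000001030000000003060001b0001a0e0001a000190600019000180e000180000f0700017000160600016000100100015000020e00014000130100013000100d0001200000070001100010070001000000060000f0000e070000e0000d070000d0000c060000c0000b070000b0000a060000a00009070000900008070000800007010000700006040000600002040000500000010000400000000000300002030000200001000000100000)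


end Cfsg.Agent.HeRecog.M8a.BS34ColW
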