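import Cfsg.Agent.CosetCert.Pack

/-! Generated: justifications. -/

set_option autoImplicit false
set_option maxRecDepth 100000

namespace Cfsg.Agent.HeRecog.M8a.BS34ColW

open Cfsg.Agent.CosetCert

def justStore : Store := (.node 1 (.leaf 0x8a0003d8000660006dc00035f0001d80801b80000200000f0000188001b68000cdc0003b80003c0006dc000011400074000080000db80004268000e4000110001ba00000440000bc000310000cc000350001a40002c0000a80001e0000ec0004b0000882c04cc0000368000280400ea0000980001ac0801d400036a0000d40000b0001b680005f6000038000320000d80003a00022800090040a600000144000530000fc0001f0000ac0002d0000d0000320000c00002e0001140004606062f00000860001000003c02045800001c0003181003a8000460000c00002e8001b4000014300002c0005e00014008088800002c0000b40400d4000096c0002802006800014f80005800015c0004202021c00000e00014000084020436000010c000260000900001e01031500000ec000070000180004002021400000ec0000700001808044c0000240004e02006b0000090000fc0004b0001180004a01040b00000800001e00028300000820000081000008000000e0000340000c00002c0000a0000240000800001c00006000014000210005bf800006c0001e810035000007e00000c0002f800001b800070000018001b50000140003902006700000bd8000040000080000000037a0000000e5000df100daa00d4b00ced00c8e00c2f00b0a00ac100a7a00a1b0096500840007e10079b0073f006ca0068100638005c400569004f40048000422003dc003540030c002f0002d4002b8001ab001630014800119000bb000780005b00000000000000000000000000000000000000000000000000000000000000000000000000000000000000000000000000000000000000000000000000000000000000000000)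 (.leaf 0x11a0004b810037000004700012a000330000ea0008dc0000124000488000ca0006dc00005c400089020075000048e00022c0001000036e00008880004301003a800007d0002180801b8000020000110000090001b680004f000021c0002f0001e40011b800002a00010a000150000ec0008da0001fb8000830000b0000db80005b6000408000d20006dc0002fd0001fc0003500036d0001b004bd004bd004bd004bd004bd004bd004bd004bd004bd004bd004bd004bd004bd004bd004bd004bd004bd004bd004bd004bd004bd004bd004bd004bd004bd004bd004bd004bd004bd004bd004bd004bd004bd004bd004bd004bd004bd004bd004bd004bd004bd004bd004bd004bd004bd004bd004bd004bd004bd004bd004bd004bd00473003fd0039d00354002f4002ab00262002030018e00119000ba0005d00000))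


end Cfsg.Agent.HeRecog.M8a.BS34ColW
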