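import Cfsg.Agent.HeRecog.M8a.BS34ColW.Defs

/-! Generated: kernel checks. -/

set_option autoImplicit false
set_option maxRecDepth 100000
set_option Elab.async false

namespace Cfsg.Agent.HeRecog.M8a.BS34ColW

open Cfsg.Agent.CosetCert

theorem logAt0 : allFrom (data.checkLog) 0 77 = true := by decide +kernel


end Cfsg.Agent.HeRecog.M8a.BS34ColW
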